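import Mathlib
import Groth.Agent.CohCmpLib.HomFrame
import Groth.Agent.SeesawLib.Ranks
import Groth.Agent.ChernOpLib.Dual
import Groth.Agent.CohCmpLib.LineBundle

/-!
# The rank of a dual
-/

set_option autoImplicit false
set_option maxRecDepth 8000

universe u

open CategoryTheory CategoryTheory.Limits AlgebraicGeometry Opposite
open ProjFormLib (ger res ger_res IsFrame)
open CohCmpLib (homMod evMod evS homEv_evMod evS_evMod exists_hom_of_frame ger_zero)

noncomputable section

namespace CycTopLib

variable {X : Scheme.{u}}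

theorem rank_of_frames {M : X.Modules} {n : ℕ}
    (h : ∀ x : X, ∃ (U : X.Opens) (e : Fin n → Γ(M, U)), x ∈ U ∧ IsFrame M e) :
    FlatMod.IsFinLocFreeOfRank n M := fun x => by
  obtain ⟨U, e, hx, he⟩ := h x
  obtain ⟨φ⟩ := CohCmpLib.exists_iso_freeMod_of_frame
    (CohCmpLib.isFrame_puSecLE U.ι he (V := (⊤ : (U : Scheme.{u}).Opens)) (fun z _ => z.2))
  exact ⟨U, hx, ⟨(Scheme.Modules.restrictFunctorIsoPullback U.ι).app M ≪≫ φ⟩⟩

theorem rank_homMod {M P : X.Modules} {n k : ℕ} (hM : FlatMod.IsFinLocFreeOfRank n M)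
    (hP : FlatMod.IsFinLocFreeOfRank k P) : FlatMod.IsFinLocFreeOfRank (k * n) (homMod M P) :=
  rank_of_frames fun x => by
  classical
  obtain ⟨U, e, hxU, he⟩ := SeesawLib.rankSet_of_rank hM x
  obtain ⟨U', p, hxU', hp⟩ := SeesawLib.rankSet_of_rank hP x
  let T : X.Opens := U ⊓ U'
  choose h hh using fun t : Fin k × Fin n => exists_hom_of_frame (P := P) he (inf_le_left : T ≤ U)
    fun i => if t.2 = i then res P (inf_le_right : T ≤ U') (p t.1) else 0
  refine ⟨T, fun t => h (finProdFinEquiv.symm t), ⟨hxU, hxU'⟩, fun y hy => ?_⟩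
  let bL := (he.basis y hy.1).linearMap (hp.basis y hy.2)
  let E := LinearEquiv.ofBijective _ (homEv_evMod (P := P) (CurveVBLib.isFinLocFree_of_rank hM) y)
  let b := (bL.map E.symm).reindex finProdFinEquiv
  have hb : ∀ t, b t = ger (homMod M P) y hy (h (finProdFinEquiv.symm t)) := fun t => by
    rw [Module.Basis.reindex_apply, Module.Basis.map_apply, LinearEquiv.symm_apply_eq]
    refine Eq.trans ?_ (evS_evMod _ y hy).symm
    refine (he.basis y hy.1).ext fun i => ?_
    rw [Module.Basis.linearMap_apply_apply, IsFrame.basis_apply, IsFrame.basis_apply, hh]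
    split_ifs
    · rw [ger_res]
    · rw [ger_zero]
  refine (congrArg Function.Bijective (funext fun c => ?_)).mpr b.equivFun.symm.bijective
  rw [Fintype.linearCombination_apply, Module.Basis.equivFun_symm_apply]
  exact Finset.sum_congr rfl fun t _ => by rw [hb]

theorem rank_du {M : X.Modules} {n : ℕ} (hM : FlatMod.IsFinLocFreeOfRank n M) :
    FlatMod.IsFinLocFreeOfRank n (ChernOpLib.du M) := by
  have := rank_homMod hM (P := Coh.structureModule X) (k := 1) (CohCmpLib.rank_one_structureModule X)
  rwa [one_mul] at this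

end CycTopLib

end
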