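import Mathlib
import Groth.Agent.ChernOpLib.Dual
import Groth.Agent.ChernOpLib.Splitting
import Groth.Agent.ProjBunLib.Split
import Groth.Agent.CycPBLib.WhitMain
import Groth.Agent.CycCommLib.RatEquiv

/-!
# Duals and top Chern classes
-/

set_option autoImplicit false
set_option linter.style.haveILetI false
set_option linter.unusedSectionVars false

universe u

open AlgebraicGeometry CategoryTheory CategoryTheory.Limits
open KFlatLib (pb tens)
open CohCmpLib (evMod curryMod homMod)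
open ChernOpLib (du duMap)

noncomputable section

namespace CycTopLib

variable {X : Scheme.{u}}

/-- The internal dual as sheaf Hom. -/
def toDu (N : X.Modules) [DCoh.HasSheafHom N] :
    (DCoh.sheafHom N).obj (Coh.structureModule X) ⟶ du N :=
  curryMod ((DCoh.sheafHomAdj N).counit.app (Coh.structureModule X))

theorem isIso_toDu (N : X.Modules) [DCoh.HasSheafHom N] (hN : FlatMod.IsFinLocFree N) : IsIso (toDu N) :=
  CohCmpLib.isIso_of_homEv _ (CohCmpLib.curryMod_comp _) (CohCmpLib.homEv_counit hN) (CohCmpLib.homEv_evMod hN)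

/-- The mate of a map is its transpose. -/
theorem toDu_natural {N' N : X.Modules} [DCoh.HasSheafHom N] [DCoh.HasSheafHom N'] (a : N' ⟶ N) :
    ((conjugateEquiv (DCoh.sheafHomAdj N) (DCoh.sheafHomAdj N')) ((DCoh.tensorBi (X := X)).map a)).app
        (Coh.structureModule X) ≫ toDu N' = toDu N ≫ duMap a := by
  refine CohCmpLib.hom_homMod_ext ?_
  rw [Functor.map_comp, Category.assoc, toDu, CohCmpLib.curryMod_comp]
  refine (conjugateEquiv_counit (DCoh.sheafHomAdj N) (DCoh.sheafHomAdj N') ((DCoh.tensorBi (X := X)).map a)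
    (Coh.structureModule X)).trans ?_
  rw [Functor.map_comp, Category.assoc, duMap, CohCmpLib.curryMod_comp, ← Category.assoc, NatTrans.naturality,
    Category.assoc, toDu, CohCmpLib.curryMod_comp]

/-- The pullback of the dual is the dual of the pullback. -/
theorem nonempty_pb_du {Y : Scheme.{u}} (g : Y ⟶ X) {M : X.Modules} (hM : FlatMod.IsFinLocFree M) :
    Nonempty (du (pb g M) ≅ pb g (du M)) := by
  let i := KFlatLib.pullUnitIso g
  have h1 := ChernOpLib.homEv_comp_iso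
    (CohCmpLib.homEv_pullback g hM (CohCmpLib.homEv_evMod (P := Coh.structureModule X) hM)) i
  have h2 : IsIso (curryMod (CohCmpLib.pullEv g (evMod M (Coh.structureModule X)) ≫ i.hom)) :=
    CohCmpLib.isIso_of_homEv _ (CohCmpLib.curryMod_comp _) h1
      (CohCmpLib.homEv_evMod (CohCmpLib.isFinLocFree_pb g hM))
  exact ⟨(@asIso _ _ _ _ _ h2).symm⟩

variable {δ : X → ℤ}

/-- Chern classes of the dual. -/
theorem chern_du (hX : Cyc.IsSetup X δ) {r : ℕ} {E : X.Modules} (hE : FlatMod.IsFinLocFreeOfRank r E)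
    {P : Scheme.{u}} {p : P ⟶ X} {O1 : P.Modules} {q : pb p E ⟶ O1} (hP : KRR.IsProjBundle p E O1 q) [IsProper p]
    {δP : P → ℤ} (hPs : Cyc.IsSetup P δP) (hδ : Cyc.DeltaCompat p δP δ)
    (hE' : FlatMod.IsFinLocFreeOfRank r (du E)) {P' : Scheme.{u}} {p' : P' ⟶ X} {O1' : P'.Modules}
    {q' : pb p' (du E) ⟶ O1'} (hP' : KRR.IsProjBundle p' (du E) O1' q') [IsProper p'] {δP' : P' → ℤ}
    (hPs' : Cyc.IsSetup P' δP') (hδ' : Cyc.DeltaCompat p' δP' δ) {k : ℤ} {α : AlgebraicCycle X ℤ}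
    (hα : α ∈ Cyc.Zk X δ k) {γ γ' : Fin (r + 1) → AlgebraicCycle X ℤ} (hγ : Cyc.IsChernCap p δ δP O1 r k α γ)
    (hγ' : Cyc.IsChernCap p' δ δP' O1' r k α γ') (j : Fin (r + 1)) :
    Cyc.RatEquiv δ (k - ((j : ℕ) : ℤ)) (γ' j) ((-1 : ℤ) ^ (j : ℕ) • γ j) := by
  classical
  obtain ⟨Q, π, δQ, d, hQ, hfl, hlft, hr, hδπ, hinj, hroots⟩ :=
    ChernOpLib.exists_splitting hX 1 (fun _ => E) (fun _ => r) (fun _ => hE)
  obtain ⟨S, hcard, hS⟩ := hroots 0
  haveI := hQ.1
  obtain ⟨e⟩ := nonempty_pb_du π (CurveVBLib.isFinLocFree_of_rank hE)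
  have hS' : ChernOpLib.Roots hQ (pb π (du E)) (S.map fun a => -a) :=
    (hS.dual (SeesawLib.isFinLocFreeOfRank_pullback π hE) hcard).of_iso e
  have hleft := ChernOpLib.chern_esymm hX hQ hr hδπ hE' hP' hPs' hδ' (by rw [Multiset.card_map, hcard]) hS' hα hγ' j
    (hγ'.2.1 j)
  have hright := ChernOpLib.chern_esymm hX hQ hr hδπ hE hP hPs hδ hcard hS hα hγ j (hγ.2.1 j)
  refine (ChernOpLib.tcl_eq_iff hX (hγ'.2.1 j) ((ChowOps.zk X δ _).zsmul_mem (hγ.2.1 j) _)).1 (hinj ?_)
  rw [ChernOpLib.tcl_smul _ (hγ.2.1 j), map_zsmul, hright, hleft, Multiset.esymm_neg]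
  generalize ChernOpLib.pullT hX hQ hr hδπ (ChernOpLib.tcl α hα) = z
  have key : ((-1 : ChernOpLib.OpRing hQ) ^ (j : ℕ) * S.esymm (j : ℕ)) = ((-1 : ℤ) ^ (j : ℕ)) • S.esymm (j : ℕ) := by
    rw [zsmul_eq_mul]
    push_cast
    rfl
  rw [key]
  rfl

/-- Chern tuples exist in every rank. -/
theorem exists_chern_any (hX : Cyc.IsSetup X δ) {r : ℕ} {K : X.Modules} (hK : FlatMod.IsFinLocFreeOfRank r K)
    {P : Scheme.{u}} {p : P ⟶ X} {O1 : P.Modules} {q : pb p K ⟶ O1} (hP : KRR.IsProjBundle p K O1 q) [IsProper p]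
    {δP : P → ℤ} (hPs : Cyc.IsSetup P δP) (hδ : Cyc.DeltaCompat p δP δ) {k : ℤ} {α : AlgebraicCycle X ℤ}
    (hα : α ∈ Cyc.Zk X δ k) : ∃ ε, Cyc.IsChernCap p δ δP O1 r k α ε := by
  cases r with
  | zero =>
    haveI := CycPBLib.isEmpty_of_rank_zero hK hP
    exact ⟨fun _ => α, rfl, fun j => by
      obtain rfl : j = 0 := Fin.ext (by omega)
      simpa using hα, fun t _ β _ => CycCommLib.ratEquivZero_of_forall_eq_zero fun z => (IsEmpty.false z).elim⟩
  | succ n =>
    obtain ⟨B, rfl, rfl⟩ := CycPBLib.exists_bun' hK hP hX hPs hδ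
    exact B.exists_chern hα

/-- Adding a trivial summand to a short exact sequence. -/
theorem shortExact_biprod {K F F' : X.Modules} (i : K ⟶ F) (g : F ⟶ F') (w : i ≫ g = 0)
    (h : (ShortComplex.mk i g w).ShortExact) (O : X.Modules) :
    ∃ w' : (i ≫ biprod.inr) ≫ biprod.map (𝟙 O) g = 0,
      (ShortComplex.mk (i ≫ biprod.inr : K ⟶ O ⊞ F) (biprod.map (𝟙 O) g) w').ShortExact := by
  haveI : Mono i := h.mono_f
  haveI : Epi g := h.epi_g
  have w' : (i ≫ biprod.inr) ≫ biprod.map (𝟙 O) g = 0 := by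
    rw [Category.assoc, biprod.inr_map, ← Category.assoc, w, zero_comp]
  haveI : Epi (biprod.map (𝟙 O) g) := ⟨fun u v huv => by
    refine biprod.hom_ext' _ _ ?_ ?_
    · simpa using congrArg (biprod.inl ≫ ·) huv
    · rw [← cancel_epi g]
      simpa using congrArg (biprod.inr ≫ ·) huv⟩
  refine ⟨w', ShortComplex.ShortExact.mk' ?_ (show Mono (i ≫ biprod.inr) from inferInstance) inferInstance⟩
  refine ShortComplex.exact_of_g_is_cokernel _ (CokernelCofork.IsColimit.ofπ _ _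
    (fun t ht => biprod.desc (biprod.inl ≫ t) (h.gIsCokernel.desc (CokernelCofork.ofπ (biprod.inr ≫ t)
      (by rw [← Category.assoc]; exact ht)))) (fun t ht => biprod.hom_ext' _ _ ?_ ?_)
    fun t ht u hu => ?_)
  · simp
  · rw [biprod.inr_map_assoc, biprod.inr_desc]
    exact h.gIsCokernel.fac _ WalkingParallelPair.one
  · rw [← cancel_epi (biprod.map (𝟙 O) g), hu]
    refine biprod.hom_ext' _ _ ?_ ?_
    · simp
    · rw [biprod.inr_map_assoc, biprod.inr_desc]
      exact (h.gIsCokernel.fac (CokernelCofork.ofπ (biprod.inr ≫ t) (by rw [← Category.assoc]; exact ht))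
        WalkingParallelPair.one).symm

end CycTopLib

end
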