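import Mathlib
import Groth.Agent.CycBivLib.Clopen
import Groth.Agent.CycBivLib.IsoInv
import Groth.Agent.CycC1Lib.Pull
import Groth.Agent.CycC1Lib.Cap
import Groth.Agent.AmpleDevLib.Pull

/-!
# Restriction of cycles along an open immersion
-/

set_option autoImplicit false
set_option linter.style.haveILetI false
set_option linter.unusedSectionVars false

universe u

open AlgebraicGeometry CategoryTheory
open KFlatLib (pb)

noncomputable section

namespace CycTopLib

variable {A V : Scheme.{u}} {δ : A → ℤ} (k : V ⟶ A) [IsOpenImmersion k]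

/-- The restriction of a cycle to an open. -/
def res (D : AlgebraicCycle A ℤ) : AlgebraicCycle V ℤ where
  toFun v := D (k v)
  supportWithinDomain' := by simp
  supportLocallyFiniteWithinDomain' v _ := by
    obtain ⟨t, ht, htf⟩ := D.supportLocallyFiniteWithinDomain' (k v) trivial
    exact ⟨k ⁻¹' t, k.continuous.continuousAt.preimage_mem_nhds ht,
      (htf.preimage k.isOpenEmbedding.injective.injOn).subset fun z hz => hz⟩

theorem res_apply (D : AlgebraicCycle A ℤ) (v : V) : res k D v = D (k v) := rfl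

theorem res_pullFun (D : AlgebraicCycle A ℤ) : ⇑(res k D) = Cyc.pullFun k (fun v => δ (k v)) δ 0 ⇑D :=
  funext fun v => (CycBivLib.pullFun_openImmersion k ⇑D v).symm

theorem res_mem {n : ℤ} {D : AlgebraicCycle A ℤ} (hD : D ∈ Cyc.Zk A δ n) :
    res k D ∈ Cyc.Zk V (fun v => δ (k v)) n := fun v hv => hD (k v) hv

theorem setup (hA : Cyc.IsSetup A δ) : Cyc.IsSetup V (fun v => δ (k v)) :=
  CycBivLib.isSetup_of_lft k hA (CycBivLib.deltaCompat_restrict k)

theorem res_ratEquiv (hA : Cyc.IsSetup A δ) {n : ℤ} {α β : AlgebraicCycle A ℤ} (hα : α ∈ Cyc.Zk A δ n)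
    (hβ : β ∈ Cyc.Zk A δ n) (h : Cyc.RatEquiv δ n α β) :
    Cyc.RatEquiv (fun v => δ (k v)) n (res k α) (res k β) := by
  have h1 := Groth.Agent.S1856.result V A (fun v => δ (k v)) δ (setup k hA) hA k 0
    (CycBivLib.hasRelDim_openImmersion k) (CycBivLib.deltaCompat_restrict k) n α β hα hβ h (res k α) (res k β)
    (by rw [Nat.cast_zero]; exact res_pullFun k α) (by rw [Nat.cast_zero]; exact res_pullFun k β)
  rwa [Nat.cast_zero, add_zero] at h1

/-- Caps with a module trivial on the open restrict to zero. -/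
theorem res_cap_ratEquivZero (hA : Cyc.IsSetup A δ) {L : A.Modules} (hL : PicF.IsInvertible L)
    (i : pb k L ≅ Coh.structureModule V) {n : ℤ} {D : AlgebraicCycle A ℤ} (hD : D ∈ Cyc.Zk A δ (n + 1))
    {s : (ξ : A) → Cyc.secFibre L ξ} (hs : ∀ ξ, s ξ ≠ 0) :
    Cyc.RatEquivZero (fun v => δ (k v)) n (res k (CycC1Lib.capCyc hA hL D hs)) := by
  have hV := setup k hA
  have hgen : ∀ v, CycLimLib.IsGen k v → δ (k v) = δ (k v) + (0 : ℤ) := fun v _ => (add_zero _).symm
  refine CycC1Lib.c1Cap_structureModule hV (res k D) (res_mem k hD)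
    (fun v => CycBivLib.fibMap i.hom v (CycC1Lib.pbFib k L v (s (k v))))
    (fun v => CycBivLib.fibMap_ne_zero i (CycC1Lib.pbFib_ne_zero k hL (hs (k v)))) _ ?_
  rw [CycBivLib.c1CapFun_fibMap hV (AmpleDevLib.isInvertible_pb k hL) i, res_pullFun (δ := δ) k D,
    ← CycC1Lib.pullFun_c1Cap k hV hA hgen hL D hs, res_pullFun (δ := δ) k]
  rfl

end CycTopLib

end
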