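import Mathlib
import Groth.Agent.CycBdlLib.Spec
import Groth.Agent.CycPBLib.Embed

/-!
# The open of a torsor in a projective bundle and embedded subbundles
-/

set_option autoImplicit false
set_option linter.style.haveILetI false
set_option linter.unusedSectionVars false

universe u

open AlgebraicGeometry CategoryTheory CategoryTheory.Limits Opposite TopologicalSpace
open AmpleLib (res GenOn GenAt)
open KFlatLib (pb puSec)
open CycBdlLib (sigOpen coefPB IsTorsor eU coef preimage_le)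

noncomputable section

namespace CycTopLib

variable {X P P₂ T B : Scheme.{u}} {E E₂ : X.Modules} {p : P ⟶ X} {O1 : P.Modules} (q : pb p E ⟶ O1)
  (hinv : PicF.IsInvertible O1) (σ : Γ(E, ⊤))

/-- The coordinates are the values of any trivialisation taking the value one on the section. -/
theorem coefPB_eq_of_iso {f : T ⟶ P} {g : T ⟶ X} (hf : f ≫ p = g) (hU : ∀ t, f t ∈ sigOpen q hinv σ)
    (i : pb f O1 ≅ Coh.structureModule T)
    (hσ : (CycPBLib.compQ q hf i.hom).app (g ⁻¹ᵁ ⊤) (puSec g σ) = (1 : Γ(T, g ⁻¹ᵁ ⊤))) (W : X.Opens) (m : Γ(E, W)) :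
    (CycPBLib.compQ q hf i.hom).app (g ⁻¹ᵁ W) (puSec g m) = coefPB q hinv σ hf hU m := by
  obtain ⟨i₀, hi₀⟩ := CycBdlLib.exists_triv q hinv σ hf hU
  let v : Coh.structureModule T ⟶ Coh.structureModule T := i₀.inv ≫ i.hom
  let a : Γ(T, ⊤) := v.app ⊤ (1 : Γ(T, ⊤))
  have hcomp : CycPBLib.compQ q hf i.hom = CycPBLib.compQ q hf i₀.hom ≫ v := by
    subst hf
    simp [CycPBLib.compQ, v]
  have hval : ∀ (W : X.Opens) (m : Γ(E, W)), (CycPBLib.compQ q hf i.hom).app (g ⁻¹ᵁ W) (puSec g m) =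
      coefPB q hinv σ hf hU m * T.presheaf.map (homOfLE (le_top : g ⁻¹ᵁ W ≤ ⊤)).op a := fun W m => by
    rw [hcomp]
    show v.app _ ((CycPBLib.compQ q hf i₀.hom).app (g ⁻¹ᵁ W) (puSec g m)) = _
    rw [hi₀]
    exact CycBdlLib.app_of_one v _ _
  have ha : a = 1 := by
    have h := (hval ⊤ σ).symm.trans hσ
    rw [CycBdlLib.coefPB_self] at h
    exact ((congr($(T.presheaf.map_id _) a)).symm.trans (one_mul _).symm).trans h
  rw [hval, ha, map_one, mul_one]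

variable {p₂ : P₂ ⟶ X} {O₂ : P₂.Modules} {q₂ : pb p₂ E₂ ⟶ O₂} (hinv₂ : PicF.IsInvertible O₂) {b : E ⟶ E₂}
  {j : P₂ ⟶ P} (hj : j ≫ p = p₂) (i₂ : pb j O1 ≅ O₂)

include i₂ in
/-- The opens of a section and of its image match along the embedding. -/
theorem mem_sigOpen_iff (hi₂ : CycPBLib.compQ q hj i₂.hom = (Scheme.Modules.pullback p₂).map b ≫ q₂) (y : P₂) :
    j y ∈ sigOpen q hinv σ ↔ y ∈ sigOpen q₂ hinv₂ (b.app ⊤ σ) := by
  subst hj
  have h1 : i₂.hom.app (j ⁻¹ᵁ (p ⁻¹ᵁ ⊤)) (puSec j (q.app (p ⁻¹ᵁ ⊤) (puSec p σ))) =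
      q₂.app ((j ≫ p) ⁻¹ᵁ ⊤) (puSec (j ≫ p) (b.app ⊤ σ)) := by
    have e := (CycPBLib.comp_apply_puSec q (rfl : j ≫ p = j ≫ p) i₂.hom σ).symm.trans
      (congr($(hi₂).app ((j ≫ p) ⁻¹ᵁ ⊤) (puSec (j ≫ p) σ)))
    exact ((congr($(O₂.presheaf.map_id _) _)).symm.trans e).trans
      (congrArg (q₂.app _) (KFlatLib.puSec_natural (j ≫ p) b σ))
  have key : ∀ h : y ∈ j ⁻¹ᵁ (p ⁻¹ᵁ (⊤ : X.Opens)), GenAt O1 (q.app (p ⁻¹ᵁ ⊤) (puSec p σ)) (show j y ∈ p ⁻¹ᵁ ⊤ from h) ↔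
      GenAt O₂ (q₂.app ((j ≫ p) ⁻¹ᵁ ⊤) (puSec (j ≫ p) (b.app ⊤ σ))) (show y ∈ (j ≫ p) ⁻¹ᵁ ⊤ from h) := fun h => by
    rw [← h1]
    exact (CycPBLib.genAt_puSec_iff' j hinv _ (x := y) h).symm.trans (TwistLib.genAt_app_iso i₂ _ (x := y) h).symm
  exact ⟨fun ⟨h, hg⟩ => ⟨h, (key h).1 hg⟩, fun ⟨h, hg⟩ => ⟨h, (key h).2 hg⟩⟩

include i₂ in
/-- Coordinates transfer along the embedding. -/
theorem coefPB_embed (hi₂ : CycPBLib.compQ q hj i₂.hom = (Scheme.Modules.pullback p₂).map b ≫ q₂)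
    {f : T ⟶ P₂} {g : T ⟶ X} (hf : f ≫ p₂ = g) (hU₂ : ∀ t, f t ∈ sigOpen q₂ hinv₂ (b.app ⊤ σ))
    (hU : ∀ t, (f ≫ j) t ∈ sigOpen q hinv σ) (hfj : (f ≫ j) ≫ p = g) (W : X.Opens) (m : Γ(E, W)) :
    coefPB q hinv σ hfj hU m = coefPB q₂ hinv₂ (b.app ⊤ σ) hf hU₂ (b.app W m) := by
  obtain ⟨i', hi'⟩ := CycBdlLib.exists_triv q₂ hinv₂ (b.app ⊤ σ) hf hU₂
  let iT := ((Scheme.Modules.pullbackComp f j).app O1).symm ≪≫ (Scheme.Modules.pullback f).mapIso i₂ ≪≫ i'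
  have e : (Scheme.Modules.pullback g).map b ≫ CycPBLib.compQ q₂ hf i'.hom = CycPBLib.compQ q hfj iT.hom :=
    CycPBLib.compQ_natural hj i₂.hom hi₂ f hf hfj i'.hom
  clear_value iT
  have hv : ∀ (W : X.Opens) (m : Γ(E, W)), (CycPBLib.compQ q hfj iT.hom).app (g ⁻¹ᵁ W) (puSec g m) =
      coefPB q₂ hinv₂ (b.app ⊤ σ) hf hU₂ (b.app W m) := fun W m => by
    refine (congr($(e.symm).app (g ⁻¹ᵁ W) (puSec g m))).trans (Eq.trans ?_ (hi' W (b.app W m)))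
    show (CycPBLib.compQ q₂ hf i'.hom).app (g ⁻¹ᵁ W) (((Scheme.Modules.pullback g).map b).app (g ⁻¹ᵁ W) (puSec g m)) = _
    exact congrArg (fun z => (CycPBLib.compQ q₂ hf i'.hom).app (g ⁻¹ᵁ W) z) (KFlatLib.puSec_natural g b m)
  rw [← coefPB_eq_of_iso q hinv σ hfj hU iT (by rw [hv, CycBdlLib.coefPB_self]) W m, hv]

/-- A torsor is the open of its section, with the classifying map. -/
theorem exists_chart (hP : KRR.IsProjBundle p E O1 q) [IsLocallyNoetherian P] [QuasiCompact p] [QuasiSeparated p]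
    {πB : B ⟶ X} {φ : E ⟶ (Scheme.Modules.pushforward πB).obj (Coh.structureModule B)}
    (hB : IsTorsor πB φ σ 1) [QuasiCompact πB] [QuasiSeparated πB] :
    ∃ (f : B ⟶ P) (hf : f ≫ p = πB) (hfU : ∀ t, f t ∈ sigOpen q hinv σ), IsOpenImmersion f ∧
      Set.range f = (sigOpen q hinv σ : Set P) ∧
      ∀ (W : X.Opens) (m : Γ(E, W)), coefPB q hinv σ hf hfU m = φ.app W m := by
  let U := sigOpen q hinv σ
  let ι := U.ι
  let g := ι ≫ p
  have hιU : ∀ u, ι u ∈ U := fun u => u.2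
  obtain ⟨i, hi⟩ := CycBdlLib.exists_triv q hinv σ (rfl : ι ≫ p = g) hιU
  let ψ := (Scheme.Modules.pullbackPushforwardAdjunction g).homEquiv _ _ (CycPBLib.compQ q (rfl : ι ≫ p = g) i.hom)
  have hψ : ∀ (W : X.Opens) (m : Γ(E, W)), ψ.app W m = coefPB q hinv σ (rfl : ι ≫ p = g) hιU m := fun W m => by
    rw [← hi]
    rfl
  haveI : QuasiCompact g := inferInstance
  haveI : QuasiSeparated g := inferInstance
  obtain ⟨θ, ⟨hθ, hθv⟩, -⟩ := hB.univ _ g ψ (by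
    refine (hψ ⊤ σ).trans ?_
    rw [CycBdlLib.coefPB_self]
    exact (map_one (g.app ⊤).hom).symm)
  let s := ((Scheme.Modules.pullbackPushforwardAdjunction πB).homEquiv _ _).symm φ
  have hsv : ∀ (W : X.Opens) (m : Γ(E, W)), s.app (πB ⁻¹ᵁ W) (puSec πB m) = φ.app W m := fun W m =>
    congr($(((Scheme.Modules.pullbackPushforwardAdjunction πB).homEquiv_unit _ _ s).symm.trans
      (Equiv.apply_symm_apply _ φ)).app W m)
  have hs1 : s.app (πB ⁻¹ᵁ ⊤) (puSec πB σ) = (1 : Γ(B, πB ⁻¹ᵁ ⊤)) :=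
    (hsv ⊤ σ).trans (hB.val.trans (map_one (πB.app ⊤).hom))
  obtain ⟨f, hf, hfU, hfv⟩ := CycBdlLib.exists_map q hinv σ hP πB s (d := 1) isUnit_one hs1
  have hfv' : ∀ (W : X.Opens) (m : Γ(E, W)), coefPB q hinv σ hf hfU m = φ.app W m := fun W m => by
    exact ((hsv W m).symm.trans ((hfv W m).trans ((congrArg (· * coefPB q hinv σ hf hfU m)
      (map_one (B.presheaf.map (homOfLE (πB.preimage_mono le_top)).op).hom)).trans (one_mul _)))).symm
  let f' : B ⟶ (↑U : Scheme.{u}) := IsOpenImmersion.lift ι f (by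
    rintro _ ⟨b, rfl⟩
    rw [U.range_ι]
    exact hfU b)
  have hf' : f' ≫ ι = f := IsOpenImmersion.lift_fac _ _ _
  have hf'g : f' ≫ g = πB := by rw [← Category.assoc, hf', hf]
  have h1 : θ ≫ f' = 𝟙 _ := by
    rw [← cancel_mono ι, Category.assoc, hf', Category.id_comp]
    refine CycBdlLib.ext_coefPB q hinv σ hP (g := g) (by rw [Category.assoc, hf, hθ]) rfl
      (fun u => by rw [Scheme.Hom.comp_apply]; exact hfU _) hιU fun W m => ?_
    rw [← CycBdlLib.appLE_coefPB q hinv σ hf hfU hθ, ← hψ, hfv']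
    exact hθv W m
  have h2 : f' ≫ θ = 𝟙 _ := by
    obtain ⟨_, -, huniq⟩ := hB.univ B πB φ hB.val
    refine (huniq _ ⟨by rw [Category.assoc, hθ, hf'g], fun W m => ?_⟩).trans
      (huniq _ ⟨Category.id_comp _, fun W m => ?_⟩).symm
    · rw [← CycBdlLib.appLE_appLE hθ hf'g W (φ.app W m), hθv, hψ, CycBdlLib.appLE_coefPB q hinv σ rfl hιU hf'g,
        ← hfv']
      simp only [hf']
    · simp only [Scheme.Hom.appLE, Scheme.Hom.id_app]
      exact congr($(B.presheaf.map_id _) _)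
  haveI : IsIso f' := ⟨θ, h2, h1⟩
  refine ⟨f, hf, hfU, hf' ▸ inferInstanceAs (IsOpenImmersion (f' ≫ ι)), ?_, hfv'⟩
  rw [← hf']
  show Set.range (⇑ι ∘ ⇑f') = _
  have hsur : Function.Surjective f' := f'.homeomorph.surjective
  rw [hsur.range_comp, U.range_ι]

end CycTopLib

end
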