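import Mathlib
import Groth.Agent.CycBdlLib.Spec

/-!
# Vector bundles as torsors, with the classifying map
-/

set_option autoImplicit false
set_option linter.style.haveILetI false
set_option linter.unusedSectionVars false

universe u

open AlgebraicGeometry CategoryTheory CategoryTheory.Limits Opposite TopologicalSpace
open AmpleLib (res)
open CycBdlLib (IsTorsor univMap symPts preimage_le pullVal hom_ext_one)

noncomputable section

namespace CycTopLib

variable {X : Scheme.{u}}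

/-- Vector bundles are torsors. -/
theorem exists_torsor_vector {ℰ : X.Modules} {A : RelSpec.QCAlg X} {j : ℰ ⟶ A.toModule}
    (hA : RelSpec.IsSymAlg ℰ A j) :
    ∃ φ : Coh.structureModule X ⊞ ℰ ⟶ (Scheme.Modules.pushforward A.π).obj (Coh.structureModule A.spec),
      IsTorsor A.π φ ((biprod.inl : Coh.structureModule X ⟶ Coh.structureModule X ⊞ ℰ).app ⊤ (1 : Γ(X, ⊤))) 1 ∧
        biprod.inr ≫ φ = univMap j := by
  let M := (Scheme.Modules.pushforward A.π).obj (Coh.structureModule A.spec)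
  let o : Coh.structureModule X ⟶ M := QCohLib.unitHom M (1 : Γ(A.spec, A.π ⁻¹ᵁ ⊤))
  have ho : o.app ⊤ (1 : Γ(X, ⊤)) = (1 : Γ(A.spec, A.π ⁻¹ᵁ ⊤)) := by
    refine (QCohLib.unitHom_app M _ ⊤ _).trans ((one_smul Γ(X, (⊤ : X.Opens)) _).trans ?_)
    exact congr($(M.presheaf.map_id _) _)
  have hval : ∀ {N : X.Modules} (ψ : Coh.structureModule X ⊞ ℰ ⟶ N),
      ψ.app ⊤ ((biprod.inl : Coh.structureModule X ⟶ Coh.structureModule X ⊞ ℰ).app ⊤ (1 : Γ(X, ⊤))) =
        (biprod.inl ≫ ψ).app ⊤ (1 : Γ(X, ⊤)) := fun ψ => rfl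
  refine ⟨biprod.desc o (univMap j), ⟨?_, fun T g _ _ ψ hψ => ?_⟩, biprod.inr_desc _ _⟩
  · rw [hval, biprod.inl_desc, map_one]
    exact ho
  obtain ⟨h, ⟨hg, hv⟩, hu⟩ := symPts hA g (biprod.inr ≫ ψ)
  have key : ∀ (h' : T ⟶ A.spec) (hg' : h' ≫ A.π = g),
      (∀ (W : X.Opens) (m : Γ(ℰ, W)), h'.appLE (A.π ⁻¹ᵁ W) (g ⁻¹ᵁ W) (preimage_le hg' W) ((univMap j).app W m) =
        (biprod.inr ≫ ψ).app W m) ↔
      ∀ (W : X.Opens) (m : Γ(Coh.structureModule X ⊞ ℰ, W)),
        h'.appLE (A.π ⁻¹ᵁ W) (g ⁻¹ᵁ W) (preimage_le hg' W) ((biprod.desc o (univMap j)).app W m) = ψ.app W m := by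
    intro h' hg'
    constructor
    · intro hh W m
      have e : pullVal hg' (biprod.desc o (univMap j)) = ψ := by
        refine biprod.hom_ext' _ _ (hom_ext_one ?_) (Scheme.Modules.hom_ext _ _ fun W => ConcreteCategory.hom_ext _ _ fun m => ?_)
        · show h'.appLE (A.π ⁻¹ᵁ ⊤) (g ⁻¹ᵁ ⊤) (preimage_le hg' ⊤)
            ((biprod.inl ≫ biprod.desc o (univMap j)).app ⊤ (1 : Γ(X, ⊤))) = _
          rw [biprod.inl_desc, ho, map_one]
          exact ((congrArg (fun z => z) hψ).trans (map_one (g.app ⊤).hom)).symm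
        · show h'.appLE (A.π ⁻¹ᵁ W) (g ⁻¹ᵁ W) (preimage_le hg' W)
            ((biprod.inr ≫ biprod.desc o (univMap j)).app W m) = _
          rw [biprod.inr_desc]
          exact hh W m
      exact congr($(e).app W m)
    · intro hh W m
      have h1 := hh W ((biprod.inr : ℰ ⟶ Coh.structureModule X ⊞ ℰ).app W m)
      rw [show (biprod.desc o (univMap j)).app W ((biprod.inr : ℰ ⟶ Coh.structureModule X ⊞ ℰ).app W m) =
        (univMap j).app W m from congr($(biprod.inr_desc o (univMap j)).app W m)] at h1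
      exact h1
  exact ⟨h, ⟨hg, (key h hg).1 hv⟩, fun h' ⟨hg', hv'⟩ => hu h' ⟨hg', (key h' hg').2 hv'⟩⟩

end CycTopLib

end
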