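import Mathlib
import Groth.Agent.CycTopLib.Torsor
import Groth.Agent.CycTopLib.Vector
import Groth.Agent.CycTopLib.Restrict
import Groth.Agent.CycTopLib.Bundle
import Groth.Agent.CycBdlLib.Inj
import Groth.Agent.CycSeqLib.Family

/-!
# Pushing from a subbundle: the top Chern class of the quotient
-/

set_option autoImplicit false
set_option linter.style.haveILetI false
set_option linter.unusedSectionVars false

universe u

open AlgebraicGeometry CategoryTheory CategoryTheory.Limits Opposite TopologicalSpace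
open KFlatLib (pb puSec)
open CycPBLib (Bun)
open CycBdlLib (sigOpen coefPB univMap toF preimage_le pullVal)

noncomputable section

namespace CycTopLib

variable {X : Scheme.{u}}

/-- The induced map of bundles is compatible with the universal families. -/
theorem appLE_univMap {F F' : X.Modules} {g : F ⟶ F'} {A A' : RelSpec.QCAlg X} {jA : F ⟶ A.toModule}
    {jA' : F' ⟶ A'.toModule} (φ : A ⟶ A') (hφ : jA ≫ RelSpec.QCAlg.Hom.toModuleMap φ = g ≫ jA') (W : X.Opens)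
    (m : Γ(F, W)) :
    (RelSpec.QCAlg.specMap φ).appLE (A.π ⁻¹ᵁ W) (A'.π ⁻¹ᵁ W) (preimage_le (RelSpec.QCAlg.specMap_π φ) W)
      ((univMap jA).app W m) = (univMap jA').app W (g.app W m) := by
  rw [CycBdlLib.univMap_app, ← CycBdlLib.toF_algHom_app A A'.π _ (RelSpec.QCAlg.specMap_π φ) W,
    CycBdlLib.toF_specMap, CycBdlLib.univMap_app]
  show (toF A').app (op W) ((φ.hom.app (op W)).hom (jA.app W m)) = _
  exact congrArg ((toF A').app (op W)) congr($(hφ).app W m)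

/-- Additivity of restriction. -/
def resHom {A V : Scheme.{u}} (k : V ⟶ A) [IsOpenImmersion k] : AlgebraicCycle A ℤ →+ AlgebraicCycle V ℤ :=
  AddMonoidHom.mk' (res k) fun _ _ => DFunLike.ext _ _ fun _ => rfl

/-- On the open the relation is its constant term. -/
theorem res_rel {P V : Scheme.{u}} {p : P ⟶ X} {O1 : P.Modules} {n : ℕ} (B : Bun p O1 n) (t : Bun.Secs O1)
    (f : V ⟶ P) [IsOpenImmersion f] (i : pb f O1 ≅ Coh.structureModule V) {e : ℕ} {k : ℤ}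
    {ε : Fin (e + 1) → AlgebraicCycle X ℤ} (hε : ∀ l : Fin (e + 1), ε l ∈ Cyc.Zk X B.δX (k - ((l : ℕ) : ℤ))) :
    Cyc.RatEquiv (fun v => B.δP (f v)) (k + n - e) (res f (B.rel t e ε)) (res f (B.pull (ε (Fin.last e)))) := by
  have hV := setup f B.hP
  have hterm : ∀ l : Fin e, Cyc.RatEquivZero (fun v => B.δP (f v)) (k + n - e)
      (res f (B.caps t (B.pull (ε (Fin.rev l.succ))) ((l : ℕ) + 1))) := fun l => by
    refine res_cap_ratEquivZero f B.hP B.hinv i ?_ (t.ne l)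
    have := B.caps_mem t (B.pull_mem (hε (Fin.rev l.succ))) (l : ℕ)
    rwa [show k - ((Fin.rev l.succ : Fin (e + 1)) : ℕ) + (n : ℤ) - ((l : ℕ) : ℤ) = k + n - e + 1 by
      have := l.2; rw [Fin.val_rev, Fin.val_succ]; omega] at this
  have hsum : Cyc.RatEquivZero (fun v => B.δP (f v)) (k + n - e)
      (∑ l : Fin e, ((-1 : ℤ) ^ ((l : ℕ) + 1)) • res f (B.caps t (B.pull (ε (Fin.rev l.succ))) ((l : ℕ) + 1))) :=
    Bun.ratEquivZero_finset_sum hV _ _ fun l _ => CycPBLib.ratEquivZero_smul hV _ (hterm l)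
  have heq : res f (B.rel t e ε) = res f (B.pull (ε (Fin.last e))) +
      ∑ l : Fin e, ((-1 : ℤ) ^ ((l : ℕ) + 1)) • res f (B.caps t (B.pull (ε (Fin.rev l.succ))) ((l : ℕ) + 1)) := by
    show resHom f (B.rel t e ε) = _
    rw [Bun.rel, map_sum, Fin.sum_univ_succ, map_zsmul]
    refine congrArg₂ (· + ·) ?_ (Finset.sum_congr rfl fun l _ => map_zsmul (resHom f) _ _)
    simp only [Fin.val_zero, pow_zero, one_smul, Fin.rev_zero]
    rfl
  show Cyc.RatEquivZero _ _ _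
  rwa [heq, add_sub_cancel_left]

variable {δ : X → ℤ}

/-- Pushing the pullback from the kernel-free bundle is the pullback of the top class of the kernel. -/
theorem map_pull_ratEquiv (hX : Cyc.IsSetup X δ) {r' e : ℕ} {K F F' : X.Modules}
    (hK : FlatMod.IsFinLocFreeOfRank e K) (hF : FlatMod.IsFinLocFreeOfRank (r' + e) F)
    (hF' : FlatMod.IsFinLocFreeOfRank r' F') (ι : K ⟶ F) (g : F ⟶ F') (w : ι ≫ g = 0)
    (hex : (ShortComplex.mk ι g w).ShortExact)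
    {PK : Scheme.{u}} {pK : PK ⟶ X} {OK : PK.Modules} {qK : pb pK K ⟶ OK} (hPK : KRR.IsProjBundle pK K OK qK)
    [IsProper pK] {δK : PK → ℤ} (hKs : Cyc.IsSetup PK δK) (hδK : Cyc.DeltaCompat pK δK δ)
    {A A' : RelSpec.QCAlg X} {jA : F ⟶ A.toModule} (hA : RelSpec.IsSymAlg F A jA)
    {jA' : F' ⟶ A'.toModule} (hA' : RelSpec.IsSymAlg F' A' jA') (φ : A ⟶ A')
    (hφ : jA ≫ RelSpec.QCAlg.Hom.toModuleMap φ = g ≫ jA') [IsClosedImmersion (RelSpec.QCAlg.specMap φ)]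
    {δV : A.spec → ℤ} (hpδ : Cyc.DeltaCompat A.π δV δ) {δV' : A'.spec → ℤ} (hp'δ : Cyc.DeltaCompat A'.π δV' δ)
    {k : ℤ} {α : AlgebraicCycle X ℤ} (hα : α ∈ Cyc.Zk X δ k)
    {ε : Fin (e + 1) → AlgebraicCycle X ℤ} (hε : Cyc.IsChernCap pK δ δK OK e k α ε)
    {c : AlgebraicCycle X ℤ} (hc : c ∈ Cyc.Zk X δ (k - e))
    (hcε : Cyc.RatEquiv δ (k - e) (((-1 : ℤ) ^ e) • ε (Fin.last e)) c)
    {β' : AlgebraicCycle A'.spec ℤ} (hβ' : ⇑β' = Cyc.pullFun A'.π δV' δ (r' : ℤ) ⇑α)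
    {β : AlgebraicCycle A.spec ℤ} (hβ : ⇑β = Cyc.pullFun A.π δV δ ((r' : ℤ) + e) ⇑c) :
    Cyc.RatEquiv δV (k + r') (AlgebraicCycle.map (RelSpec.QCAlg.specMap φ) δV' δV β') β := by
  classical
  haveI := hX.1
  let O := Coh.structureModule X
  let G := O ⊞ F
  let G' := O ⊞ F'
  obtain ⟨w', hse⟩ := shortExact_biprod ι g w hex O
  let b : G ⟶ G' := biprod.map (𝟙 O) g
  have hG := CycBdlLib.rank_structureModule_biprod hF
  have hG' := CycBdlLib.rank_structureModule_biprod hF'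
  obtain ⟨P, p, O1, q, δP, hP, hPs, hδ, -⟩ := ProjBunLib.exists_good_bundle hX hG
  obtain ⟨P₂, p₂, O₂, q₂, δ₂, hP₂, hS₂, hδ₂, -⟩ := ProjBunLib.exists_good_bundle hX hG'
  haveI := ProjBunLib.isProper hP hG
  haveI := ProjBunLib.isProper hP₂ hG'
  haveI := hPs.1
  haveI := hS₂.1
  obtain ⟨B, rfl, rfl⟩ := CycPBLib.exists_bun' hG hP hX hPs hδ
  have hinv₂ : PicF.IsInvertible O₂ := (CohCmpLib.invertible_iff_rank_one O₂).2 hP₂.invertible
  haveI := hP₂.epi
  haveI : Epi b := hse.epi_g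
  haveI : Epi ((Scheme.Modules.pullback p₂).map b) := by
    haveI := (Scheme.Modules.pullbackPushforwardAdjunction p₂).isLeftAdjoint
    exact Functor.map_epi _ _
  obtain ⟨j, ⟨hj, i₂, hi₂⟩, -⟩ := hP.univ P₂ p₂ O₂ hP₂.invertible
    ((Scheme.Modules.pullback p₂).map b ≫ q₂) (epi_comp _ _)
  obtain ⟨hjc, hrange⟩ := CycPBLib.embedding_spec hP hP₂ w' hse B.hinv hj i₂ hi₂
  haveI := hjc
  obtain ⟨B₂, hX₂, hd₂⟩ := CycPBLib.exists_bun' hG' (CycPBLib.isProjBundle_iso hP₂ i₂.symm) B.hX hS₂ hδ₂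
  -- the charts
  let σ : Γ(G, ⊤) := (biprod.inl : O ⟶ G).app ⊤ (1 : Γ(X, ⊤))
  let σ' : Γ(G', ⊤) := (biprod.inl : O ⟶ G').app ⊤ (1 : Γ(X, ⊤))
  have hbl : biprod.inl ≫ b = (biprod.inl : O ⟶ G') := by simp [b]
  have hσ : b.app ⊤ σ = σ' := congr($(hbl).app ⊤ (1 : Γ(X, ⊤)))
  obtain ⟨φV, hV, hVr⟩ := exists_torsor_vector hA
  obtain ⟨φV', hV', hVr'⟩ := exists_torsor_vector hA'
  haveI : IsAffineHom A.π := ⟨fun U hU => by
    rw [A.π_preimage U hU]
    exact isAffineOpen_opensRange _⟩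
  haveI : IsAffineHom A'.π := ⟨fun U hU => by
    rw [A'.π_preimage U hU]
    exact isAffineOpen_opensRange _⟩
  obtain ⟨f, hf, hfU, hfo, hfr, hfv⟩ := exists_chart q B.hinv σ hP hV
  rw [show (biprod.inl : O ⟶ G').app ⊤ (1 : Γ(X, ⊤)) = b.app ⊤ σ from hσ.symm] at hV'
  obtain ⟨f', hf', hfU', hfo', hfr', hfv'⟩ := exists_chart q₂ hinv₂ (b.app ⊤ σ) hP₂ hV'
  haveI := hfo
  haveI := hfo'
  let i := RelSpec.QCAlg.specMap φ
  have hi : i ≫ A.π = A'.π := RelSpec.QCAlg.specMap_π φ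
  have hcompat : b ≫ φV' = pullVal hi φV := by
    refine biprod.hom_ext' _ _ (CycBdlLib.hom_ext_one ?_) (Scheme.Modules.hom_ext _ _ fun W =>
      ConcreteCategory.hom_ext _ _ fun m => ?_)
    · refine Eq.trans (hV'.val.trans (map_one (A'.π.app ⊤).hom)) ?_
      show (1 : Γ(A'.spec, A'.π ⁻¹ᵁ ⊤)) = i.appLE (A.π ⁻¹ᵁ ⊤) (A'.π ⁻¹ᵁ ⊤) (preimage_le hi ⊤) (φV.app ⊤ σ)
      rw [hV.val, map_one, map_one]
    · show φV'.app W (b.app W ((biprod.inr : F ⟶ G).app W m)) =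
        i.appLE (A.π ⁻¹ᵁ W) (A'.π ⁻¹ᵁ W) (preimage_le hi W) ((biprod.inr ≫ φV).app W m)
      rw [hVr, appLE_univMap φ hφ W m, ← hVr']
      exact congrArg (φV'.app W) congr($(show biprod.inr ≫ b = g ≫ biprod.inr by simp [b]).app W m)
  have hUi : ∀ v', (i ≫ f) v' ∈ sigOpen q B.hinv σ := fun v' => hfU (i v')
  have hUj : ∀ v', (f' ≫ j) v' ∈ sigOpen q B.hinv σ := fun v' =>
    (mem_sigOpen_iff q B.hinv σ hinv₂ hj i₂ hi₂ (f' v')).2 (hfU' v')
  have hsq : i ≫ f = f' ≫ j := by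
    refine CycBdlLib.ext_coefPB q B.hinv σ hP (g := A'.π) (by rw [Category.assoc, hf, hi])
      (by rw [Category.assoc, hj, hf']) hUi hUj fun W m => ?_
    rw [coefPB_embed q B.hinv σ hinv₂ hj i₂ hi₂ hf' hfU' hUj, hfv',
      ← CycBdlLib.appLE_coefPB q B.hinv σ hf hfU hi, hfv]
    exact (congr($(hcompat).app W m)).symm
  -- dimension functions
  obtain rfl : δV = fun v => B.δP (f v) :=
    CycBivLib.deltaCompat_immersion_eq f (CycBivLib.deltaCompat_cancel f p hf B.hδ hpδ)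
  obtain rfl : δV' = fun v => B₂.δP (f' v) :=
    CycBivLib.deltaCompat_immersion_eq f' (CycBivLib.deltaCompat_cancel f' p₂ hf' (hX₂ ▸ B₂.hδ) hp'δ)
  have hjδ := B.deltaCompat_embedded B₂ hj hX₂
  have hj' : B₂.δP = fun y => B.δP (j y) := CycBivLib.deltaCompat_immersion_eq j hjδ
  have hi' : (fun v => B₂.δP (f' v)) = fun v => B.δP (f (i v)) := funext fun v => by
    rw [hj']
    exact congrArg B.δP congr($(hsq) v).symm
  -- the relation
  obtain ⟨z, hz, hzs, hR⟩ := CycPBLib.exists_rel_support B (r₁ := e) (r₂ := r' + 1) (by omega) hG hP hK hPK hG'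
    _ b w' hse B.hinv hKs hδK hε B.std
  have hdeg : k - 1 + ((r' + 1 : ℕ) : ℤ) = k + r' := by push_cast; ring
  rw [hdeg] at hz hR
  have h1 := B.rel_eq_push B₂ hj hX₂ (r := e) (by omega) hε.2.1 B.std hz
    (fun x hx => hzs x (by rw [hrange] at hx; exact not_not.1 hx)) hR
  rw [hε.1] at h1
  obtain ⟨iT, -⟩ := CycBdlLib.exists_triv q B.hinv σ hf hfU
  have h2 := res_rel B B.std f iT hε.2.1
  have hdeg2 : k + ((r' + e : ℕ) : ℤ) - e = k + r' := by push_cast; ring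
  rw [hdeg2] at h2
  have hrelm : B.rel B.std e ε ∈ Cyc.Zk P B.δP (k + r') := by
    have := B.rel_mem B.std hε.2.1
    rwa [hdeg2] at this
  have hpushm : ((-1 : ℤ) ^ e) • AlgebraicCycle.map j B₂.δP B.δP (B₂.pull α) ∈ Cyc.Zk P B.δP (k + r') :=
    CycPBLib.smul_mem_Zk _ (CycPBLib.map_mem_Zk j (B₂.pull_mem (hX₂.symm ▸ hα)))
  have h3 := res_ratEquiv f B.hP hrelm hpushm h1
  have hVs := setup f B.hP
  have hpush : AlgebraicCycle.map i (fun v => B₂.δP (f' v)) (fun v => B.δP (f v)) β' =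
      res f (AlgebraicCycle.map j B₂.δP B.δP (B₂.pull α)) := DFunLike.ext _ _ fun v => by
    rw [hi', res_apply, hj']
    by_cases hv : v ∈ Set.range i
    · obtain ⟨v', rfl⟩ := hv
      rw [CycSeqLib.map_closed_apply (δ := fun v => B.δP (f v)) i β' v',
        show f (i v') = j (f' v') from congr($(hsq) v'), CycSeqLib.map_closed_apply (δ := B.δP) j (B₂.pull α)]
      show β' v' = Cyc.pullFun p₂ B₂.δP B₂.δX r' ⇑α (f' v')
      rw [hβ', hX₂, ← CycBdlLib.pullFun_openImm f' p₂ hf' B₂.δP B.δX r' ⇑α v']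
    · rw [CycSeqLib.map_closed_apply_zero (δ := fun v => B.δP (f v)) i β' hv,
        CycSeqLib.map_closed_apply_zero (δ := B.δP) j (B₂.pull α)]
      rintro ⟨y, hy⟩
      have hyU : y ∈ sigOpen q₂ hinv₂ (b.app ⊤ σ) :=
        (mem_sigOpen_iff q B.hinv σ hinv₂ hj i₂ hi₂ y).1 (hy ▸ hfU v)
      obtain ⟨v', rfl⟩ := hfr'.ge hyU
      exact hv ⟨v', f.isOpenEmbedding.injective ((congr($(hsq) v')).trans hy)⟩
  rw [hpush]
  have hbeta : β = res f (B.pull c) := DFunLike.ext _ _ fun v => by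
    rw [hβ, res_apply]
    show _ = Cyc.pullFun p B.δP B.δX ((r' + e : ℕ) : ℤ) ⇑c (f v)
    rw [← CycBdlLib.pullFun_openImm f p hf B.δP B.δX ((r' + e : ℕ) : ℤ) ⇑c v, Nat.cast_add]
  rw [hbeta]
  -- combine
  let u : ℤ := (-1 : ℤ) ^ e
  have hu : u * u = 1 := by
    show (-1 : ℤ) ^ e * (-1 : ℤ) ^ e = 1
    rw [← mul_pow]
    simp
  let M := AlgebraicCycle.map j B₂.δP B.δP (B₂.pull α)
  have hM : res f (u • M) = u • res f M := map_zsmul (resHom f) u M
  have h4 : Cyc.RatEquiv (fun v => B.δP (f v)) (k + r') (res f M) (u • res f (B.pull (ε (Fin.last e)))) := by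
    have h := CycPBLib.ratEquiv_smul hVs u (CycCommLib.ratEquiv_trans hVs (CycCommLib.ratEquiv_symm hVs h3) h2)
    rwa [show res f (((-1 : ℤ) ^ e) • AlgebraicCycle.map j B₂.δP B.δP (B₂.pull α)) = u • res f M from hM,
      smul_smul, hu, one_smul] at h
  refine CycCommLib.ratEquiv_trans hVs h4 ?_
  have hεm : u • ε (Fin.last e) ∈ Cyc.Zk X B.δX (k - e) := CycPBLib.smul_mem_Zk _ (by
    have := hε.2.1 (Fin.last e)
    rwa [Fin.val_last] at this)
  have hdeg3 : k - e + ((r' + e : ℕ) : ℤ) = k + r' := by push_cast; ring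
  have h5 : Cyc.RatEquivZero B.δP (k + r') (B.pull (u • ε (Fin.last e) - c)) := by
    have := B.pull_ratEquivZero (k := k - e) (CycPBLib.sub_mem_Zk hεm hc) hcε
    rwa [hdeg3] at this
  have h6 := res_ratEquiv f B.hP (n := k + r') (α := B.pull (u • ε (Fin.last e) - c)) (β := 0)
    (hdeg3 ▸ B.pull_mem (CycPBLib.sub_mem_Zk hεm hc)) (fun _ _ => rfl)
    (show Cyc.RatEquivZero _ _ (_ - 0) by rwa [sub_zero])
  refine (CycCommLib.ratEquivZero_add hVs (show Cyc.RatEquivZero _ _ _ from h6)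
    (CycCommLib.ratEquivZero_of_forall_eq_zero (α := 0) fun _ => rfl) fun v => ?_ :
    Cyc.RatEquivZero _ _ (u • res f (B.pull (ε (Fin.last e))) - res f (B.pull c)))
  show (u • res f (B.pull (ε (Fin.last e)))) v - res f (B.pull c) v =
    (res f (B.pull (u • ε (Fin.last e) - c)) v - 0) + 0
  simp only [CycPBLib.smul_apply, res_apply, B.pull_apply]
  split_ifs with h
  · show u * _ - _ = ((u • ε (Fin.last e)) (p (f v)) - c (p (f v)) - 0) + 0
    rw [CycPBLib.smul_apply]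
    ring
  · ring

end CycTopLib

end
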